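import Cfsg.Agent.Brauer.Covering
import Cfsg.Agent.Brauer.WeakOrth
import Cfsg.Agent.Block.Idempotent
import Cfsg.Agent.CharInd.Clifford
import Cfsg.Agent.CharInd.GenChar
import Mathlib.GroupTheory.Sylow

/-!
# The constituents of the members of a covering block fill the covered blocks

For a block `B` of `G` the set `U` of irreducible characters of `N` lying below a member of `B` has
a locally integral idempotent, hence is a union of blocks of `N`.
-/

set_option autoImplicit false
set_option linter.style.haveILetI false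
set_option linter.unusedSectionVars false
set_option linter.unusedVariables false

noncomputable section

open scoped ComplexConjugate BigOperators Classical Pointwise

namespace Cfsg.Agent.CoverAll

open Cfsg

universe u

variable {G : Type u} [Group G] [Fintype G] (N : Subgroup G) [hN : N.Normal] [Fintype N]

/-- Invariant functions vanishing on the `p`-regular elements. -/
def Adm (p : ℕ) (f : N → ℂ) : Prop :=
  (∀ x : G, CharInd.conjChar N x f = f) ∧ ∀ n : N, ¬ p ∣ orderOf n → f n = 0

theorem Adm.isClassFunction {p : ℕ} {f : N → ℂ} (h : Adm N p f) : IsClassFunction N f := by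
  intro a b
  exact congrFun (h.1 (b : G)) a

/-- The multiplier operator. -/
def mult (w : IrrCharacter N → ℂ) (f : N → ℂ) : N → ℂ :=
  ∑ θ : IrrCharacter N, (classInner f (θ : N → ℂ) * w θ) • (θ : N → ℂ)

theorem classInner_mult (w : IrrCharacter N → ℂ) (f : N → ℂ) (θ : IrrCharacter N) :
    classInner (mult N w f) (θ : N → ℂ) = classInner f (θ : N → ℂ) * w θ :=
  Char.classInner_sum_smul_irr (fun θ => classInner f (θ : N → ℂ) * w θ) θ

/-- A multiplier preserving the admissible functions. -/
def Good (p : ℕ) (w : IrrCharacter N → ℂ) : Prop := ∀ f, Adm N p f → Adm N p (mult N w f)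

theorem Adm.add {p : ℕ} {f g : N → ℂ} (hf : Adm N p f) (hg : Adm N p g) : Adm N p (f + g) := by
  refine ⟨fun x => ?_, fun n hn => ?_⟩
  · funext n
    simp only [CharInd.conjChar_apply, Pi.add_apply]
    have e1 := congrFun (hf.1 x) n
    have e2 := congrFun (hg.1 x) n
    simp only [CharInd.conjChar_apply] at e1 e2
    rw [e1, e2]
  · simp [hf.2 n hn, hg.2 n hn]

theorem Adm.smul {p : ℕ} {f : N → ℂ} (hf : Adm N p f) (c : ℂ) : Adm N p (c • f) := by
  refine ⟨fun x => ?_, fun n hn => ?_⟩
  · funext n
    simp only [CharInd.conjChar_apply, Pi.smul_apply]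
    have e1 := congrFun (hf.1 x) n
    simp only [CharInd.conjChar_apply] at e1
    rw [e1]
  · simp [hf.2 n hn]

theorem good_const {p : ℕ} (c : ℂ) : Good N p (fun _ => c) := by
  intro f hf
  have : mult N (fun _ => c) f = c • f := by
    conv_rhs => rw [Char.eq_sum_classInner_smul (Adm.isClassFunction N hf)]
    simp only [mult, Finset.smul_sum, smul_smul, mul_comm c]
  rw [this]
  exact Adm.smul N hf c

theorem good_add {p : ℕ} {v w : IrrCharacter N → ℂ} (hv : Good N p v) (hw : Good N p w) :
    Good N p (fun θ => v θ + w θ) := by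
  intro f hf
  have : mult N (fun θ => v θ + w θ) f = mult N v f + mult N w f := by
    simp only [mult, mul_add, add_smul, Finset.sum_add_distrib]
  rw [this]
  exact Adm.add N (hv f hf) (hw f hf)

theorem good_mul {p : ℕ} {v w : IrrCharacter N → ℂ} (hv : Good N p v) (hw : Good N p w) :
    Good N p (fun θ => v θ * w θ) := by
  intro f hf
  have : mult N (fun θ => v θ * w θ) f = mult N v (mult N w f) := by
    show _ = ∑ θ : IrrCharacter N, (classInner (mult N w f) (θ : N → ℂ) * v θ) • (θ : N → ℂ)
    simp only [classInner_mult]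
    exact Finset.sum_congr rfl fun θ _ => by ring_nf
  rw [this]
  exact hv _ (hw f hf)

theorem good_prod {p : ℕ} {ι : Type*} (s : Finset ι) (v : ι → IrrCharacter N → ℂ)
    (hv : ∀ i ∈ s, Good N p (v i)) : Good N p (fun θ => ∏ i ∈ s, v i θ) := by
  induction s using Finset.induction_on with
  | empty => simpa using good_const N (p := p) 1
  | insert a t ha ih =>
    simp only [Finset.prod_insert ha]
    exact good_mul N (hv a (Finset.mem_insert_self a t))
      (ih fun i hi => hv i (Finset.mem_insert_of_mem hi))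

variable (B : Set (IrrCharacter G))

/-- The weight of a character of `N` with respect to the members of `B`. -/
def wgt (θ : IrrCharacter N) : ℂ :=
  ∑ χ ∈ B.toFinite.toFinset, classInner (fun n : N => (χ : G → ℂ) n) (θ : N → ℂ) *
    ∑ η : IrrCharacter N, classInner (fun n : N => (χ : G → ℂ) n) (η : N → ℂ)

theorem wgt_ne_zero_iff (θ : IrrCharacter N) :
    wgt N B θ ≠ 0 ↔ ∃ χ ∈ B, classInner (fun n : N => (χ : G → ℂ) n) (θ : N → ℂ) ≠ 0 := by
  choose k hk using fun (χ : IrrCharacter G) (η : IrrCharacter N) =>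
    Char.isCharacter_classInner_nat (Char.isCharacter_restrict (Char.isCharacter_of_irr χ.2) N) η
  constructor
  · intro h
    by_contra! hcon
    exact h (Finset.sum_eq_zero fun χ hχ => by
      rw [hcon χ (B.toFinite.mem_toFinset.mp hχ), zero_mul])
  · rintro ⟨χ, hχ, h⟩
    simp only [wgt, hk] at h ⊢
    rw [show (∑ χ ∈ B.toFinite.toFinset, (k χ θ : ℂ) * ∑ η, (k χ η : ℂ)) =
      ((∑ χ ∈ B.toFinite.toFinset, k χ θ * ∑ η, k χ η : ℕ) : ℂ) by push_cast; rfl, Nat.cast_ne_zero]
    intro h0
    have h1 := (Finset.sum_eq_zero_iff.mp h0) χ (B.toFinite.mem_toFinset.mpr hχ)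
    rcases Nat.mul_eq_zero.mp h1 with h2 | h2
    · exact h (by simp [h2])
    · exact h (by simp [(Finset.sum_eq_zero_iff.mp h2) θ (Finset.mem_univ θ)])

theorem wgt_conjIrr (x : G) (θ : IrrCharacter N) : wgt N B (Brauer.conjIrr N x θ) = wgt N B θ := by
  refine Finset.sum_congr rfl fun χ _ => ?_
  congr 1
  exact CharInd.classInner_res_conjChar N (Char.irr_isClassFunction χ.2) x _

theorem constituent_conj {χ : IrrCharacter G} {θ η : IrrCharacter N}
    (hθ : classInner (fun n : N => (χ : G → ℂ) n) (θ : N → ℂ) ≠ 0)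
    (hη : classInner (fun n : N => (χ : G → ℂ) n) (η : N → ℂ) ≠ 0) :
    ∃ x : G, (η : N → ℂ) = CharInd.conjChar N x (θ : N → ℂ) := by
  by_contra hcon
  apply hη
  rw [CharInd.clifford N χ.2 θ.2 hθ, Char.classInner_smul_left, Char.classInner_sum_left]
  refine mul_eq_zero_of_right _ (Finset.sum_eq_zero fun ψ hψ => ?_)
  obtain ⟨x, rfl⟩ := (CharInd.mem_conjClass N).mp hψ
  exact Char.classInner_irr_ne (CharInd.conjChar_irr N x θ.2) η.2
    (fun e => hcon ⟨x, e.symm⟩)

theorem mult_wgt_eq {p : ℕ} {f : N → ℂ} (hf : Adm N p f) :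
    mult N (wgt N B) f = ∑ χ ∈ B.toFinite.toFinset,
      classInner f (fun n : N => (χ : G → ℂ) n) • (fun n : N => (χ : G → ℂ) n) := by
  simp only [mult, wgt, Finset.mul_sum, Finset.sum_smul]
  rw [Finset.sum_comm]
  refine Finset.sum_congr rfl fun χ _ => ?_
  set r := fun n : N => (χ : G → ℂ) n with hr
  have hrc : Cfsg.IsCharacter N r := Char.isCharacter_restrict (Char.isCharacter_of_irr χ.2) N
  have hr' := Char.eq_sum_classInner_smul (Char.isCharacter_isClassFunction hrc)
  conv_rhs => arg 2; rw [hr']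
  rw [Finset.smul_sum]
  refine Finset.sum_congr rfl fun θ _ => ?_
  rw [smul_smul]
  by_cases hθ : classInner r (θ : N → ℂ) = 0
  · rw [hθ]; simp
  · have key : ∀ η : IrrCharacter N, classInner f (θ : N → ℂ) * classInner r (η : N → ℂ) =
        conj (classInner r (η : N → ℂ)) * classInner f (η : N → ℂ) := by
      intro η
      obtain ⟨k, hk⟩ := Char.isCharacter_classInner_nat hrc η
      rw [hk, map_natCast]
      by_cases hη : classInner r (η : N → ℂ) = 0
      · rw [hk] at hη; rw [hη]; simp
      · obtain ⟨x, hx⟩ := constituent_conj N hθ hη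
        rw [mul_comm]
        congr 1
        rw [hx]
        conv_rhs => rw [← hf.1 x]
        rw [CharInd.classInner_conjChar]
    have hsum : classInner f r = classInner f (θ : N → ℂ) * ∑ η : IrrCharacter N,
        classInner r (η : N → ℂ) := by
      conv_lhs => rw [hr', Char.classInner_sum_right]
      rw [Finset.mul_sum]
      refine Finset.sum_congr rfl fun η _ => ?_
      rw [Char.classInner_smul_right, key η]
    rw [hsum, ← Finset.sum_smul, ← Finset.mul_sum]
    congr 1
    rw [Finset.mul_sum, Finset.mul_sum, Finset.sum_mul]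
    exact Finset.sum_congr rfl fun η _ => by ring

variable {p : ℕ} {M : Ideal AlgInt}

theorem good_wgt (hM : IsPModular p M) (hB : IsPBlock M B) : Good N p (wgt N B) := by
  haveI : M.IsPrime := hM.2.1.isPrime
  intro f hf
  rw [mult_wgt_eq N B hf]
  refine ⟨fun x => ?_, fun n hn => ?_⟩
  · funext n
    simp only [CharInd.conjChar_apply, Finset.sum_apply, Pi.smul_apply]
    refine Finset.sum_congr rfl fun χ _ => ?_
    rw [Char.irr_isClassFunction χ.2 (n : G) x]
  · simp only [Finset.sum_apply, Pi.smul_apply, smul_eq_mul, classInner, Finset.mul_sum,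
      Finset.sum_mul]
    rw [Finset.sum_comm]
    refine Finset.sum_eq_zero fun m _ => ?_
    by_cases hm : p ∣ orderOf m
    · have h := Brauer.weakOrth_of_integral hM B (fun g => Block.blockCoeff_memLocalRing hB g)
        (x := (n : G)) (y := (m : G)) (by rwa [Subgroup.orderOf_coe])
        (by rwa [Subgroup.orderOf_coe])
      rw [finsum_mem_eq_finite_toFinset_sum _ B.toFinite] at h
      rw [← mul_zero ((Nat.card N : ℂ)⁻¹ * f m), ← h, Finset.mul_sum]
      exact Finset.sum_congr rfl fun χ _ => by ring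
    · simp [hf.2 m hm]

/-- The characters of `N` below members of `B`. -/
def below : Set (IrrCharacter N) :=
  {θ | ∃ χ ∈ B, classInner (fun n : N => (χ : G → ℂ) n) (θ : N → ℂ) ≠ 0}

theorem below_conjIrr (x : G) (θ : IrrCharacter N) :
    Brauer.conjIrr N x θ ∈ below N B ↔ θ ∈ below N B := by
  show (∃ χ ∈ B, _) ↔ ∃ χ ∈ B, _
  rw [← wgt_ne_zero_iff, ← wgt_ne_zero_iff, wgt_conjIrr]

theorem good_indicator (hM : IsPModular p M) (hB : IsPBlock M B) :
    Good N p (fun θ => if θ ∈ below N B then 1 else 0) := by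
  set L := ((Finset.univ : Finset (IrrCharacter N)).image (wgt N B)).erase 0 with hL
  have h := good_add N (good_const N (p := p) 1) (good_mul N (good_const N (p := p) (-1))
    (good_prod N L (fun l θ => 1 + (-l⁻¹) * wgt N B θ) fun l _ =>
      good_add N (good_const N 1) (good_mul N (good_const N (-l⁻¹)) (good_wgt N B hM hB))))
  convert h using 1
  funext θ
  by_cases hθ : θ ∈ below N B
  · rw [if_pos hθ]
    have hne : wgt N B θ ≠ 0 := (wgt_ne_zero_iff N B θ).mpr hθ
    rw [Finset.prod_eq_zero (i := wgt N B θ)]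
    · ring
    · exact Finset.mem_erase.mpr ⟨hne, Finset.mem_image_of_mem _ (Finset.mem_univ θ)⟩
    · field_simp
      ring
  · rw [if_neg hθ]
    have h0 : wgt N B θ = 0 := by
      by_contra h'
      exact hθ ((wgt_ne_zero_iff N B θ).mp h')
    simp [h0]

theorem indicator_vanish (hM : IsPModular p M) (hB : IsPBlock M B) {f : N → ℂ}
    (hf : Adm N p f) {n : N} (hn : ¬ p ∣ orderOf n) :
    ∑ θ ∈ Finset.univ.filter (· ∈ below N B),
      ((Nat.card N : ℂ) * classInner f (θ : N → ℂ)) * (θ : N → ℂ) n = 0 := by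
  have h := (good_indicator N B hM hB f hf).2 n hn
  simp only [mult, Finset.sum_apply, Pi.smul_apply, smul_eq_mul, mul_ite, mul_one, mul_zero,
    ite_mul, zero_mul, ← Finset.sum_filter] at h
  rw [← mul_zero (Nat.card N : ℂ), ← h, Finset.mul_sum]
  exact Finset.sum_congr rfl fun θ _ => by ring

theorem adm_orbit (s : Finset N) (hs : ∀ u ∈ s, p ∣ orderOf u) :
    Adm N p (fun x : N => (((Finset.univ ×ˢ s).filter fun gu : G × N =>
      gu.1 * (gu.2 : G) * gu.1⁻¹ = x).card : ℂ)) := by
  refine ⟨fun z => ?_, fun n hn => ?_⟩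
  · funext n
    simp only [CharInd.conjChar_apply, Nat.cast_inj]
    refine Finset.card_equiv ((Equiv.mulLeft z⁻¹).prodCongr (Equiv.refl N)) fun gu => ?_
    simp only [Equiv.prodCongr_apply, Finset.mem_filter, Finset.mem_product, Finset.mem_univ,
      true_and, Prod.map_fst, Prod.map_snd, Equiv.coe_mulLeft, Equiv.refl_apply]
    refine and_congr_right fun _ => ?_
    constructor
    · intro h
      have : z⁻¹ * gu.1 * gu.2 * (z⁻¹ * gu.1)⁻¹ = z⁻¹ * (gu.1 * gu.2 * gu.1⁻¹) * z := by group
      rw [this, h]; group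
    · intro h
      have : gu.1 * gu.2 * gu.1⁻¹ = z * (z⁻¹ * gu.1 * gu.2 * (z⁻¹ * gu.1)⁻¹) * z⁻¹ := by group
      rw [this, h]
  · dsimp only
    rw [Finset.filter_false_of_mem, Finset.card_empty, Nat.cast_zero]
    intro gu hgu h
    apply hn
    have hu := hs gu.2 (Finset.mem_product.mp hgu).2
    rw [← Subgroup.orderOf_coe] at hu ⊢
    rw [← h]
    have := (MulAut.conj gu.1).orderOf_eq (gu.2 : G)
    rw [MulAut.conj_apply] at this
    rwa [this]

theorem card_mul_inner_orbit (s : Finset N) (θ : IrrCharacter N) :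
    (Nat.card N : ℂ) * classInner (fun x : N => (((Finset.univ ×ˢ s).filter fun gu : G × N =>
      gu.1 * (gu.2 : G) * gu.1⁻¹ = x).card : ℂ)) (θ : N → ℂ) =
      ∑ g : G, ∑ u ∈ s, conj (CharInd.conjChar N g (θ : N → ℂ) u) := by
  rw [classInner, mul_inv_cancel_left₀ Char.card_ne_zero_complex, ← Finset.sum_product',
    ← Finset.sum_fiberwise (Finset.univ ×ˢ s)
      (fun gu : G × N => (⟨gu.1 * (gu.2 : G) * gu.1⁻¹, hN.conj_mem _ gu.2.2 _⟩ : N))]
  refine Finset.sum_congr rfl fun x _ => ?_
  rw [Finset.sum_congr rfl (g := fun _ => conj ((θ : N → ℂ) x)) fun gu hgu => by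
    rw [← (Finset.mem_filter.mp hgu).2]; rfl, Finset.sum_const, nsmul_eq_mul]
  congr 3
  ext gu
  simp [Subtype.ext_iff]

/-- The idempotent of the set below a block is locally integral. -/
theorem blockCoeff_below (hM : IsPModular p M) (hB : IsPBlock M B) (n : N) :
    MemLocalRing M (blockCoeff (below N B) n) := by
  haveI : M.IsPrime := hM.2.1.isPrime
  haveI : Fact p.Prime := ⟨hM.1⟩
  set U := Finset.univ.filter (· ∈ below N B) with hU
  have hblock : blockCoeff (below N B) n =
      (Nat.card N : ℂ)⁻¹ * ∑ θ ∈ U, (θ : N → ℂ) 1 * conj ((θ : N → ℂ) n) := by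
    rw [blockCoeff, finsum_mem_eq_finite_toFinset_sum _ (below N B).toFinite]
    congr 1
    refine Finset.sum_congr ?_ fun _ _ => rfl
    ext θ; simp [hU]
  rw [hblock]
  have hG : (Nat.card G : ℂ) ≠ 0 := Char.card_ne_zero_complex
  by_cases hn : p ∣ orderOf n
  · have h := indicator_vanish N B hM hB (adm_orbit N {n} (by simpa using hn))
      (n := 1) (by rw [orderOf_one]; exact hM.1.not_dvd_one)
    simp only [card_mul_inner_orbit N {n}, Finset.sum_singleton, Finset.sum_mul] at h
    rw [Finset.sum_comm] at h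
    have hg : ∀ g : G, ∑ θ ∈ U, conj (CharInd.conjChar N g (θ : N → ℂ) n) * (θ : N → ℂ) 1 =
        ∑ θ ∈ U, (θ : N → ℂ) 1 * conj ((θ : N → ℂ) n) := by
      intro g
      let e : IrrCharacter N ≃ IrrCharacter N :=
        { toFun := Brauer.conjIrr N g
          invFun := Brauer.conjIrr N g⁻¹
          left_inv := fun η => by rw [← Brauer.conjIrr_mul, mul_inv_cancel, Brauer.conjIrr_one]
          right_inv := fun η => by rw [← Brauer.conjIrr_mul, inv_mul_cancel, Brauer.conjIrr_one] }
      refine Finset.sum_equiv e (fun η => ?_) fun η _ => ?_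
      · simp only [hU, Finset.mem_filter, Finset.mem_univ, true_and]
        exact (below_conjIrr N B g η).symm
      · rw [mul_comm]
        congr 1
        show _ = CharInd.conjChar N g (η : N → ℂ) 1
        exact congrArg (η : N → ℂ) (Subtype.ext (by simp))
    rw [Finset.sum_congr rfl fun g _ => hg g, Finset.sum_const, nsmul_eq_mul, mul_eq_zero,
      Finset.card_univ, ← Nat.card_eq_fintype_card] at h
    rw [h.resolve_left hG, mul_zero]
    exact (Block.localRing M).zero_mem
  · obtain ⟨P⟩ := (inferInstance : Nonempty (Sylow p N))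
    set s : Finset N := Finset.univ.filter fun u => u ∈ (P : Subgroup N) ∧ u ≠ 1 with hs
    have hsp : ∀ u ∈ s, p ∣ orderOf u := by
      intro u hu
      simp only [hs, Finset.mem_filter, Finset.mem_univ, true_and] at hu
      obtain ⟨k, hk⟩ := IsPGroup.iff_orderOf.mp P.2 ⟨u, hu.1⟩
      rw [← Subgroup.orderOf_coe] at hk
      rw [hk]
      refine dvd_pow_self p fun hk0 => hu.2 ?_
      rw [hk0, pow_zero] at hk
      exact orderOf_eq_one_iff.mp hk
    have hsum : ∀ (θ : IrrCharacter N) (g : G),
        ∑ u ∈ s, conj (CharInd.conjChar N g (θ : N → ℂ) u) = ∑ u ∈ s, conj ((θ : N → ℂ) u) := by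
      intro θ g
      obtain ⟨a, ha⟩ := MulAction.exists_smul_eq N ((MulAut.conjNormal g : MulAut N) • P) P
      set φ : MulAut N := MulAut.conj a * (MulAut.conjNormal g : MulAut N) with hφ
      have hφP : φ • (P : Subgroup N) = (P : Subgroup N) := by
        have h1 := congrArg (fun Q : Sylow p N => (Q : Subgroup N)) ha
        simp only [Sylow.coe_subgroup_smul, Sylow.pointwise_smul_def] at h1
        rw [hφ, mul_smul]
        exact h1
      refine Finset.sum_equiv φ.toEquiv (fun u => ?_) fun u _ => ?_
      · simp only [hs, Finset.mem_filter, Finset.mem_univ, true_and, MulEquiv.toEquiv_eq_coe,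
          EquivLike.coe_coe, ne_eq, MulEquiv.map_eq_one_iff]
        refine and_congr_left fun _ => ?_
        conv_rhs => rw [← hφP]
        exact (Subgroup.smul_mem_pointwise_smul_iff (a := φ)).symm
      · congr 1
        show _ = (θ : N → ℂ) (φ u)
        rw [hφ, MulAut.mul_apply, MulAut.conj_apply, Char.irr_isClassFunction θ.2]
        rfl
    have h := indicator_vanish N B hM hB (adm_orbit N s hsp) hn
    simp only [card_mul_inner_orbit N s, hsum, Finset.sum_const, Finset.card_univ, nsmul_eq_mul,
      ← Nat.card_eq_fintype_card, ← hU] at h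
    simp only [mul_assoc, ← Finset.mul_sum, mul_eq_zero, hG, false_or] at h
    choose k hk using fun θ : IrrCharacter N => Char.isCharacter_classInner_nat
      (Char.isCharacter_restrict (Char.isCharacter_of_irr θ.2) (P : Subgroup N))
      (⟨fun _ => 1, CharInd.irr_one_const⟩ : IrrCharacter (P : Subgroup N))
    have hfull : ∀ θ : IrrCharacter N,
        (θ : N → ℂ) 1 = (Nat.card P : ℂ) * (k θ : ℂ) - ∑ u ∈ s, (θ : N → ℂ) u := by
      intro θ
      rw [← hk θ]
      simp only [classInner, map_one, mul_one]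
      rw [mul_inv_cancel_left₀ Char.card_ne_zero_complex, eq_sub_iff_add_eq,
        ← Finset.sum_subtype (Finset.univ.filter fun u => u ∈ (P : Subgroup N))
          (fun u => by simp) (fun u : N => (θ : N → ℂ) u),
        ← Finset.add_sum_erase (Finset.univ.filter fun u => u ∈ (P : Subgroup N)) _
          (show (1 : N) ∈ _ from Finset.mem_filter.mpr ⟨Finset.mem_univ _, one_mem _⟩)]
      congr 1
      refine Finset.sum_congr ?_ fun _ _ => rfl
      ext u
      simp [hs, and_comm]
    have hneg : ∑ θ ∈ U, (∑ u ∈ s, (θ : N → ℂ) u) * conj ((θ : N → ℂ) n) = 0 := by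
      have := congrArg conj h
      simpa [map_sum, map_mul] using this
    rw [Finset.sum_congr rfl (g := fun θ => (Nat.card P : ℂ) * ((k θ : ℂ) * conj ((θ : N → ℂ) n)) -
      (∑ u ∈ s, (θ : N → ℂ) u) * conj ((θ : N → ℂ) n)) (fun θ _ => by rw [hfull θ]; ring),
      Finset.sum_sub_distrib, hneg, sub_zero, ← Finset.mul_sum, ← mul_assoc]
    refine (Block.localRing M).mul_mem ?_ ((Block.localRing M).sum_mem fun θ _ =>
      (Block.localRing M).mul_mem (Block.memLocalRing_natCast _) ?_)
    · show MemLocalRing M _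
      rw [← Subgroup.card_mul_index (P : Subgroup N), Nat.cast_mul, mul_inv, mul_right_comm,
        inv_mul_cancel₀ (Nat.cast_ne_zero.mpr Nat.card_pos.ne'), one_mul]
      exact Block.memLocalRing_natCast_inv hM P.not_dvd_index
    · rw [← Char.irr_inv θ.2]
      exact Block.memLocalRing_of_isIntegral
        (Char.isCharacter_isIntegral (Char.isCharacter_of_irr θ.2) _)

/-- A covering block lies over every member of a covered block. -/
theorem covers_all (hM : IsPModular p M) (hB : IsPBlock M B) {b : Set (IrrCharacter N)}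
    (hb : IsPBlock M b) {θ₀ : IrrCharacter N} (h0 : θ₀ ∈ b) (hU : θ₀ ∈ below N B)
    {θ : IrrCharacter N} (hθ : θ ∈ b) : θ ∈ below N B := by
  haveI : M.IsPrime := hM.2.1.isPrime
  have := Block.blockOf_subset_of_memLocalRing (A := below N B)
    (fun g => blockCoeff_below N B hM hB g) hU
  rw [← Block.pBlock_eq hb h0] at this
  exact this hθ

end Cfsg.Agent.CoverAll
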