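import Cfsg.Agent.Block.DefectGroup

/-!
# Central characters on classes inside a normal `p`-subgroup
-/

set_option autoImplicit false
set_option linter.style.haveILetI false

namespace Cfsg.Agent.BlockVal

open Cfsg
open Cfsg.Agent.Block
open MonoidAlgebra

universe u

variable {G : Type u} [Group G] [Fintype G] {p : ℕ} {M : Ideal AlgInt}

theorem centralChar_pElement (hM : IsPModular p M) (N : Subgroup G) [N.Normal] (hN : IsPGroup p N)
    (χ : IrrCharacter G) {g : G} (hgN : g ∈ N) :
    MemLocalIdeal M
      (centralChar (χ : G → ℂ) g - ((Subgroup.centralizer ({g} : Set G)).index : ℂ)) := by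
  classical
  haveI : M.IsPrime := hM.2.1.isPrime
  haveI : Fact p.Prime := ⟨hM.1⟩
  haveI := charP_resF (M := M) hM
  set k := (Subgroup.centralizer ({g} : Set G)).index with hk
  set z : MonoidAlgebra (ResF M) G := classSum (ResF M) g - (k : ResF M) • 1 with hz
  have hzc : IsCentralElt z := (classSum_isCentralElt g).sub (IsCentralElt.smul _ IsCentralElt.one)
  have hcoef : ∀ x : G, z.coeff x =
      (if IsConj g x then 1 else 0) - (k : ResF M) * (if x = 1 then 1 else 0) := fun x => by
    simp [hz, coeff_classSum, coeff_one_eq, coeff_smul, coeff_sub]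
  have hnil : IsNilpotent z := by
    refine isNilpotent_of_coset_sum_eq_zero hN fun y => ?_
    have hconjN : ∀ x : G, IsConj g x → x ∈ N := fun x hx => by
      obtain ⟨c, rfl⟩ := isConj_iff.mp hx
      exact Subgroup.Normal.conj_mem inferInstance g hgN c
    by_cases hy : y ∈ N
    · have e : (Finset.univ.filter fun x => y⁻¹ * x ∈ N) = Finset.univ.filter fun x => x ∈ N := by
        ext x; simp [Subgroup.mul_mem_cancel_left _ (inv_mem hy)]
      rw [e]
      simp only [hcoef, Finset.sum_sub_distrib, ← Finset.mul_sum, Finset.sum_boole,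
        Finset.filter_filter]
      have e1 : (Finset.univ.filter fun x : G => x ∈ N ∧ IsConj g x).card = k := by
        rw [hk, ← Char.card_isConj_eq_index g]
        congr 1
        ext x
        simp only [Finset.mem_filter, Finset.mem_univ, true_and, and_iff_right_iff_imp]
        exact hconjN x
      have e2 : (Finset.univ.filter fun x : G => x ∈ N ∧ x = 1).card = 1 := by
        rw [Finset.card_eq_one]
        exact ⟨1, by ext x; simp only [Finset.mem_filter, Finset.mem_univ, true_and,
          Finset.mem_singleton]; exact ⟨fun h => h.2, fun h => ⟨h ▸ N.one_mem, h⟩⟩⟩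
      rw [e1, e2, Nat.cast_one, mul_one, sub_self]
    · refine Finset.sum_eq_zero fun x hx => ?_
      have hxN : x ∉ N := fun h => hy (by
        have h1 := N.mul_mem h (inv_mem (Finset.mem_filter.mp hx).2)
        rwa [mul_inv_rev, inv_inv, mul_inv_cancel_left] at h1)
      rw [hcoef, if_neg (fun h => hxN (hconjN x h)), if_neg (fun h : x = 1 => hxN (h ▸ N.one_mem))]
      simp
  have h := lam_eq_zero_of_isNilpotent χ.2 hzc hnil
  rw [hz, lam_sub χ.2 (classSum_isCentralElt g) (IsCentralElt.smul _ IsCentralElt.one),
    lam_classSum χ.2, lam_smul χ.2, lam_one χ.2, mul_one, ← redC_natCast,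
    ← redC_sub (centralChar_memLocalRing χ.2 g) (memLocalRing_natCast k),
    redC_eq_zero_iff ((localRing M).sub_mem (centralChar_memLocalRing χ.2 g) (memLocalRing_natCast k))] at h
  exact h

end Cfsg.Agent.BlockVal
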